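import Cfsg.Agent.LargePrimitive.Bounds
import Cfsg.Agent.Zsigmondy.Basic

/-! # Large primitive prime divisors -/

namespace CfsgLib.LargePrimitive

open Polynomial

/-- A non-primitive prime divides `Φ_n(q)` only once, for `n ≥ 3`. -/
theorem not_sq_dvd {a n r k m : ℕ} (ha : 1 < a) (hn : 3 ≤ n) (hr : r.Prime) (hk : 0 < k)
    (hnm : n = r ^ k * m) (hm : m ∣ r - 1) (hord : orderOf (a : ZMod r) = m) :
    ¬ r ^ 2 ∣ ((cyclotomic n ℤ).eval (a : ℤ)).natAbs := by
  have : Fact r.Prime := ⟨hr⟩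
  intro hdiv
  rcases hr.eq_two_or_odd' with rfl | hodd
  · obtain rfl : m = 1 := Nat.dvd_one.mp hm
    rw [mul_one] at hnm
    obtain ⟨j, rfl⟩ : ∃ j, k = j + 1 := ⟨k - 1, by omega⟩
    obtain ⟨i, rfl⟩ : ∃ i, j = i + 1 := by
      refine ⟨j - 1, ?_⟩
      rcases Nat.eq_zero_or_pos j with rfl | hj
      · norm_num at hnm; omega
      · omega
    have hval : ((cyclotomic n ℤ).eval (a : ℤ)).natAbs = (a ^ 2 ^ i) ^ 2 + 1 := by
      rw [hnm, cyclotomic_prime_pow_eq_geom_sum hr]
      simp only [Finset.sum_range_succ, Finset.sum_range_zero, pow_zero, pow_one, zero_add, eval_add,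
        eval_one, eval_pow, eval_X]
      rw [show (1 : ℤ) + (a : ℤ) ^ 2 ^ (i + 1) = (((a ^ 2 ^ i) ^ 2 + 1 : ℕ) : ℤ) by
        push_cast; ring, Int.natAbs_natCast]
    rw [hval] at hdiv
    have : ∀ x : ZMod 4, x ^ 2 + 1 ≠ 0 := by decide
    refine this ((a ^ 2 ^ i : ℕ) : ZMod 4) ?_
    have h4 := (ZMod.natCast_eq_zero_iff _ 4).2 (show 4 ∣ (a ^ 2 ^ i) ^ 2 + 1 from hdiv)
    push_cast at h4 ⊢
    exact h4
  · have hr3 : 3 ≤ r := by have := hr.two_le; rcases hodd with ⟨c, hc⟩; omega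
    obtain ⟨j, rfl⟩ : ∃ j, k = j + 1 := ⟨k - 1, by omega⟩
    set d := r ^ j * m with hd
    have hm0 : 0 < m := Nat.pos_of_dvd_of_pos hm (by omega)
    have hdn : n = d * r := by rw [hnm, hd]; ring
    have hd0 : 0 < d := Nat.mul_pos (Nat.pow_pos hr.pos) hm0
    have hdp : d ∈ n.properDivisors := Nat.mem_properDivisors.mpr
      ⟨⟨r, hdn⟩, by rw [hdn]; exact lt_mul_of_one_lt_right hd0 hr.one_lt⟩
    have hdvd := map_dvd (evalRingHom (a : ℤ))
      (X_pow_sub_one_mul_cyclotomic_dvd_X_pow_sub_one_of_dvd ℤ hdp)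
    simp only [map_mul, map_sub, map_pow, map_one, coe_evalRingHom, eval_X] at hdvd
    rw [show ((a : ℤ)) ^ n = ((a : ℤ) ^ d) ^ r by rw [hdn, pow_mul]] at hdvd
    have hb1 : ((a : ℤ) ^ d - 1) ≠ 0 := by
      have : 1 < (a : ℤ) ^ d := one_lt_pow₀ (by exact_mod_cast ha) hd0.ne'
      omega
    rw [← geom_sum_mul ((a : ℤ) ^ d) r, mul_comm _ ((a : ℤ) ^ d - 1),
      mul_dvd_mul_iff_left hb1] at hdvd
    obtain ⟨c, hc⟩ : (r : ℤ) ∣ (a : ℤ) ^ d - 1 := by
      rw [← ZMod.intCast_zmod_eq_zero_iff_dvd]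
      push_cast
      rw [sub_eq_zero, ← orderOf_dvd_iff_pow_eq_one, hord]
      exact Dvd.intro_left _ rfl
    have hsq := odd_sq_dvd_geom_sum₂_sub (R := ℤ) (1 : ℤ) c hodd
    simp only [one_pow, mul_one] at hsq
    rw [show (1 : ℤ) + (r : ℤ) * c = (a : ℤ) ^ d by linarith] at hsq
    have h1 : (r : ℤ) ^ 2 ∣ (cyclotomic n ℤ).eval (a : ℤ) := by
      exact_mod_cast Int.natCast_dvd.mpr hdiv
    have h3 : (r : ℤ) ^ 2 ∣ (r : ℤ) := by
      have := dvd_sub (h1.trans hdvd) hsq
      rwa [sub_sub_cancel] at this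
    have := Int.le_of_dvd (by omega) h3
    nlinarith

/-- witnesses for the small cases -/
def smallWitness : List (ℕ × ℕ × ℕ) :=
  [(2, 3, 7), (3, 3, 13), (4, 3, 7), (5, 3, 31), (6, 3, 43), (4, 4, 17), (5, 4, 13), (6, 4, 37),
   (7, 4, 5), (8, 4, 13), (2, 5, 31), (3, 5, 11), (4, 6, 13), (6, 6, 31), (7, 6, 43), (8, 6, 19),
   (9, 6, 73), (10, 6, 13), (11, 6, 37), (12, 6, 19), (2, 7, 127), (2, 8, 17), (3, 8, 41),
   (4, 8, 257), (2, 9, 73), (3, 10, 61), (4, 10, 41), (3, 12, 73), (4, 12, 241), (2, 14, 43),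
   (3, 14, 547), (2, 15, 151), (2, 16, 257), (3, 18, 37), (2, 20, 41), (2, 22, 683), (2, 24, 241),
   (2, 30, 331), (2, 36, 109), (2, 42, 5419)]

/-- the exceptional pairs -/
def exceptions : List (ℕ × ℕ) :=
  [(2, 4), (2, 6), (2, 10), (2, 12), (2, 18), (3, 4), (3, 6), (5, 6)]

/-- the degrees with small cyclotomic values -/
def smallDegrees : List ℕ := [3, 4, 5, 6, 7, 8, 9, 10, 12, 14, 15, 16, 18, 20, 22, 24, 30, 36, 42]

/-- residues prime to `n` among the first ninety-eight -/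
def coprimeCount (n : ℕ) : ℕ := (List.range (min n 98)).countP fun d => Nat.beq (Nat.gcd n d) 1

theorem coprimeCount_le_totient (n : ℕ) : coprimeCount n ≤ n.totient := by
  have h1 : coprimeCount n ≤ (List.range n).countP fun d => Nat.beq (Nat.gcd n d) 1 :=
    List.Sublist.countP_le (List.range_sublist.2 (min_le_left _ _))
  refine h1.trans (le_of_eq ?_)
  rw [Nat.totient_eq_card_coprime, Finset.card, Finset.filter_val, Finset.range_val, Multiset.range,
    Multiset.filter_coe, Multiset.coe_card, List.countP_eq_length_filter]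
  congr 1
  refine List.filter_congr fun d _ => ?_
  rw [Bool.eq_iff_iff, Nat.beq_eq, decide_eq_true_eq]

set_option maxRecDepth 100000 in
theorem small_degree_count : ∀ n < 970, 3 ≤ n → smallDegrees.contains n = false →
    4 * (n + 1) * n < 2 ^ coprimeCount n := by
  decide +kernel

theorem small_degree (n : ℕ) (hn : n < 970) (h3 : 3 ≤ n) (hs : smallDegrees.contains n = false) :
    4 * (n + 1) * n < 2 ^ n.totient :=
  (small_degree_count n hn h3 hs).trans_le
    (Nat.pow_le_pow_right (by norm_num) (coprimeCount_le_totient n))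

set_option maxRecDepth 100000 in
theorem small_pairs : ∀ n ∈ smallDegrees, 4 * (n + 1) * n < 14 ^ n.totient ∧ ∀ q < 14, 2 ≤ q →
    4 * (n + 1) * n < q ^ n.totient ∨ exceptions.contains (q, n) = true ∨
      smallWitness.any (fun w => w.1 == q && w.2.1 == n) = true := by
  decide +kernel

set_option maxRecDepth 100000 in
theorem witness_ok : smallWitness.all (fun w =>
    decide (2 ≤ w.2.2) && (List.range (w.2.2)).all (fun d => d < 2 || d * d > w.2.2 || w.2.2 % d != 0) &&
      (w.1 ^ w.2.1 - 1) % w.2.2 == 0 &&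
      (List.range w.2.1).all (fun i => i == 0 || (w.1 ^ i - 1) % w.2.2 != 0) &&
      (decide (w.2.1 + 1 < w.2.2) || (w.1 ^ w.2.1 - 1) % (w.2.2 ^ 2) == 0)) = true := by
  decide +kernel

theorem exists_witness {q n : ℕ} (h : smallWitness.any (fun w => w.1 == q && w.2.1 == n) = true) :
    ∃ p : ℕ, p.Prime ∧ p ∣ q ^ n - 1 ∧ (∀ i : ℕ, 1 ≤ i → i < n → ¬ p ∣ q ^ i - 1) ∧
      (n + 1 < p ∨ p ^ 2 ∣ q ^ n - 1) := by
  obtain ⟨⟨q', n', p⟩, hw, he⟩ := List.any_eq_true.1 h
  simp only [Bool.and_eq_true, beq_iff_eq] at he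
  obtain ⟨rfl, rfl⟩ := he
  have hok := List.all_eq_true.1 witness_ok _ hw
  simp only [Bool.and_eq_true, decide_eq_true_eq, List.all_eq_true, List.mem_range, Bool.or_eq_true,
    beq_iff_eq, bne_iff_ne, ne_eq] at hok
  obtain ⟨⟨⟨⟨h2, hsmall⟩, hdvd⟩, hprim⟩, hlarge⟩ := hok
  refine ⟨p, ?_, Nat.dvd_of_mod_eq_zero hdvd, fun i h1 h2' hd => ?_, ?_⟩
  · rw [Nat.prime_def_le_sqrt]
    refine ⟨h2, fun d hd hds hdp => ?_⟩
    have hle : d * d ≤ p := Nat.le_sqrt.1 hds
    have hlt : d < p := by nlinarith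
    rcases hsmall d hlt with (h | h) | h
    · omega
    · omega
    · exact h (Nat.mod_eq_zero_of_dvd hdp)
  · rcases hprim i h2' with h | h
    · omega
    · exact h (Nat.mod_eq_zero_of_dvd hd)
  · exact hlarge.imp id Nat.dvd_of_mod_eq_zero

theorem exists_large_primitive (q n : ℕ) (hq : 2 ≤ q) (hn : 2 ≤ n)
    (h1 : ¬ (n = 2 ∧ ∃ s t : ℕ, t ≤ 1 ∧ q + 1 = 2 ^ s * 3 ^ t))
    (hex : exceptions.contains (q, n) = false) :
    ∃ p : ℕ, p.Prime ∧ p ∣ q ^ n - 1 ∧ (∀ i : ℕ, 1 ≤ i → i < n → ¬ p ∣ q ^ i - 1) ∧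
      (n + 1 < p ∨ p ^ 2 ∣ q ^ n - 1) := by
  by_cases hn2 : n = 2
  · subst hn2
    by_contra hcon
    push Not at hcon
    refine h1 ⟨rfl, ?_⟩
    have hfac : q ^ 2 - 1 = (q + 1) * (q - 1) := by
      rw [← Nat.sq_sub_sq, one_pow]
    have hp : ∀ p, p.Prime → p ∣ q + 1 → p ≠ 2 → p = 3 ∧ ¬ p ^ 2 ∣ q + 1 := by
      intro p hp hd hp2
      have hd2 : p ∣ q ^ 2 - 1 := hfac ▸ hd.mul_right _
      have hprim : ∀ i : ℕ, 1 ≤ i → i < 2 → ¬ p ∣ q ^ i - 1 := by
        intro i hi1 hi2 hd1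
        obtain rfl : i = 1 := by omega
        rw [pow_one] at hd1
        have : p ∣ 2 := by
          have := Nat.dvd_sub hd hd1
          rwa [show q + 1 - (q - 1) = 2 by omega] at this
        exact hp2 ((Nat.prime_dvd_prime_iff_eq hp Nat.prime_two).1 this)
      obtain ⟨hle, hsq⟩ := hcon p hp hd2 hprim
      refine ⟨?_, fun h => hsq (hfac ▸ h.mul_right _)⟩
      have := hp.two_le
      omega
    obtain ⟨u, hu⟩ := Nat.ordProj_dvd (q + 1) 2
    have hu3 : u ∣ 3 := by
      refine (Nat.dvd_iff_prime_pow_dvd_dvd 3 u).2 fun p k hpp hk => ?_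
      rcases Nat.eq_zero_or_pos k with rfl | hkpos
      · simp
      have hd : p ^ k ∣ q + 1 := hk.trans (Dvd.intro_left _ hu.symm)
      have hp2 : p ≠ 2 := by
        rintro rfl
        have hu' : u = ordCompl[2] (q + 1) :=
          Nat.eq_of_mul_eq_mul_left (Nat.pow_pos two_pos)
            (hu.symm.trans (Nat.ordProj_mul_ordCompl_eq_self (q + 1) 2).symm)
        exact Nat.not_dvd_ordCompl Nat.prime_two (by omega) (hu' ▸ (dvd_pow_self 2 hkpos.ne').trans hk)
      obtain ⟨rfl, hsq⟩ := hp p hpp ((dvd_pow_self p hkpos.ne').trans hd) hp2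
      have hk1 : k = 1 := by
        by_contra hne
        exact hsq ((pow_dvd_pow 3 (by omega : 2 ≤ k)).trans hd)
      subst hk1; simp
    rcases (Nat.dvd_prime Nat.prime_three).1 hu3 with rfl | rfl
    · exact ⟨(q + 1).factorization 2, 0, by norm_num, by rw [pow_zero]; exact hu⟩
    · exact ⟨(q + 1).factorization 2, 1, le_rfl, by rw [pow_one]; exact hu⟩
  have hn3 : 3 ≤ n := by omega
  -- small pairs have witnesses, for the others the cyclotomic value is too large
  by_cases hbig : q ^ n.totient ≤ 4 * (n + 1) * n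
  · have h2q : 2 ^ n.totient ≤ q ^ n.totient := Nat.pow_le_pow_left hq _
    have hn970 : n < 970 := by
      by_contra hlt
      obtain ⟨hsqb, -⟩ := le_two_mul_totient_sq n
      have hf : 23 ≤ n.totient := by
        by_contra hf
        have := Nat.pow_le_pow_left (by omega : n.totient ≤ 22) 2
        omega
      have := pow_four_le_two_pow hf
      have : 4 * (n + 1) * n ≤ 24 * n.totient ^ 4 := by
        have h3 : 4 * (n + 1) * n ≤ 4 * (2 * n) * n := by
          gcongr; omega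
        nlinarith [Nat.mul_le_mul hsqb hsqb]
      have : 2 ^ n.totient < q ^ n.totient ∨ q = 2 := by
        rcases eq_or_lt_of_le hq with h | h
        · exact Or.inr h.symm
        · exact Or.inl (Nat.pow_lt_pow_left h (by omega))
      rcases this with h | rfl
      · omega
      · have h5 : 4 * (n + 1) * n < 24 * n.totient ^ 4 := by
          nlinarith [Nat.mul_le_mul hsqb hsqb]
        omega
    have hmem : n ∈ smallDegrees := by
      by_contra hm
      have := small_degree n hn970 hn3 (by simpa [List.contains_iff_mem] using hm)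
      omega
    obtain ⟨h14, hall⟩ := small_pairs n hmem
    have hq14 : q < 14 := by
      by_contra h
      have := Nat.pow_le_pow_left (not_lt.1 h) n.totient
      omega
    rcases hall q hq14 hq with h | h | h
    · omega
    · rw [hex] at h; exact absurd h Bool.false_ne_true
    · exact exists_witness h
  · by_contra hcon
    push Not at hcon
    set Φ := ((cyclotomic n ℤ).eval (q : ℤ)).natAbs with hΦ
    have hΦd : Φ ∣ q ^ n - 1 := by
      have h := map_dvd (evalRingHom (q : ℤ)) (cyclotomic.dvd_X_pow_sub_one n ℤ)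
      simp only [coe_evalRingHom, eval_sub, eval_pow, eval_X, eval_one] at h
      have h' := Int.natAbs_dvd_natAbs.2 h
      rwa [show (q : ℤ) ^ n - 1 = ((q ^ n - 1 : ℕ) : ℤ) by
        rw [Nat.cast_sub (Nat.one_le_pow _ _ (by omega))]; push_cast; rfl, Int.natAbs_natCast] at h'
    have hdvd : Φ ∣ (n + 1) * n := by
      refine (Nat.dvd_iff_prime_pow_dvd_dvd _ _).2 fun r k hr hk => ?_
      rcases Nat.eq_zero_or_pos k with rfl | hkpos
      · simp
      have hrd : r ∣ Φ := (dvd_pow_self r hkpos.ne').trans hk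
      haveI : Fact r.Prime := ⟨hr⟩
      rcases CfsgLib.Zsigmondy.cases_of_dvd (by omega) hr hrd with hord | ⟨j, m, hj, hnm, hm, hord⟩
      · have hdd : r ∣ q ^ n - 1 := hrd.trans hΦd
        have key : ∀ i, r ∣ q ^ i - 1 ↔ n ∣ i := by
          intro i
          rw [← hord, orderOf_dvd_iff_pow_eq_one, ← ZMod.natCast_eq_zero_iff,
            Nat.cast_sub (Nat.one_le_pow _ _ (by omega)), Nat.cast_pow, Nat.cast_one, sub_eq_zero]
        obtain ⟨hle, hsq⟩ := hcon r hr hdd fun i hi1 hi2 hd =>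
          absurd (Nat.le_of_dvd hi1 ((key i).1 hd)) (by omega)
        have hq0 : (q : ZMod r) ≠ 0 := fun h0 => by
          rw [h0] at hord; simp at hord; omega
        have hn1 : n ∣ r - 1 := hord ▸ orderOf_dvd_of_pow_eq_one (ZMod.pow_card_sub_one_eq_one hq0)
        have hr1 : r = n + 1 := by
          have := Nat.le_of_dvd (by have := hr.two_le; omega) hn1
          omega
        have hk1 : k = 1 := by
          by_contra hne
          exact hsq (((pow_dvd_pow r (by omega : 2 ≤ k)).trans hk).trans hΦd)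
        subst hk1
        rw [pow_one, ← hr1]; exact dvd_mul_right r n
      · have hk1 : k = 1 := by
          by_contra hne
          exact not_sq_dvd (by omega) hn3 hr hj hnm hm hord
            ((pow_dvd_pow r (by omega : 2 ≤ k)).trans hk)
        subst hk1
        rw [pow_one]
        exact Dvd.dvd.mul_left (hnm ▸ (dvd_pow_self r hj.ne').mul_right m) _
    have h4 := pow_totient_le hq (by omega : 0 < n)
    have h5 := Nat.le_of_dvd (by positivity) hdvd
    rw [← hΦ] at h4
    nlinarith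

end CfsgLib.LargePrimitive
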