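import Mathlib

/-! # Lower bounds for cyclotomic values and totients -/

namespace CfsgLib.LargePrimitive

open Polynomial ArithmeticFunction
open scoped ArithmeticFunction.Moebius

theorem quarter_le_prod (n : ℕ) :
    (1 / 4 : ℝ) + (1 / 2) ^ (n + 2) ≤ ∏ d ∈ Finset.Icc 1 (n + 1), (1 - (1 / 2 : ℝ) ^ d) := by
  induction n with
  | zero => simp; norm_num
  | succ n ih =>
    rw [Finset.prod_Icc_succ_top (by omega : 1 ≤ n + 1 + 1)]
    have hx : (0 : ℝ) < (1 / 2) ^ n := by positivity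
    have hx1 : (1 / 2 : ℝ) ^ n ≤ 1 := pow_le_one₀ (by norm_num) (by norm_num)
    have h2 : (0 : ℝ) ≤ 1 - (1 / 2) ^ (n + 1 + 1) := by
      have : (1 / 2 : ℝ) ^ (n + 1 + 1) ≤ 1 := pow_le_one₀ (by norm_num) (by norm_num)
      linarith
    refine le_trans ?_ (mul_le_mul_of_nonneg_right ih h2)
    simp only [pow_succ, one_div] at *
    nlinarith

/-- `q ^ φ(n) ≤ 4 Φ_n(q)` -/
theorem pow_totient_le {q n : ℕ} (hq : 2 ≤ q) (hn : 0 < n) :
    q ^ n.totient ≤ 4 * ((cyclotomic n ℤ).eval (q : ℤ)).natAbs := by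
  set x : ℝ := (q : ℝ) with hx
  have hx2 : (2 : ℝ) ≤ x := by rw [hx]; exact_mod_cast hq
  let f : ℕ → ℝ := fun d => (cyclotomic d ℝ).eval x / x ^ d.totient
  let g : ℕ → ℝ := fun d => 1 - (1 / x) ^ d
  have hg : ∀ d, 0 < d → 0 < g d ∧ g d ≤ 1 ∧ 1 - (1 / 2 : ℝ) ^ d ≤ g d := by
    intro d hd
    have h0 : 0 < 1 / x := by positivity
    have h1 : 1 / x ≤ 1 / 2 := by gcongr
    have h2 : (1 / x) ^ d ≤ (1 / 2 : ℝ) ^ d := pow_le_pow_left₀ h0.le h1 d
    have h3 : (1 / 2 : ℝ) ^ d < 1 := pow_lt_one₀ (by norm_num) (by norm_num) hd.ne'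
    have h4 : 0 < (1 / x) ^ d := pow_pos h0 d
    refine ⟨?_, ?_, ?_⟩ <;> simp only [g] <;> linarith
  have hprod : ∀ m > 0, ∏ d ∈ m.divisors, f d = g m := by
    intro m hm
    simp only [f, g]
    rw [Finset.prod_div_distrib, Finset.prod_pow_eq_pow_sum, Nat.sum_totient,
      ← Polynomial.eval_prod, prod_cyclotomic_eq_X_pow_sub_one hm]
    simp only [eval_sub, eval_pow, eval_X, eval_one, one_div, inv_pow]
    rw [sub_div, div_self (by positivity), one_div]
  have hf : ∀ m : ℕ, 0 < m → f m ≠ 0 := fun m hm h => by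
    have := hprod m hm
    rw [Finset.prod_eq_zero (Nat.mem_divisors_self m hm.ne') h] at this
    exact (hg m hm).1.ne this
  have hinv := (prod_eq_iff_prod_pow_moebius_eq_of_nonzero hf
    (fun m hm => (hg m hm).1.ne')).1 hprod n hn
  have key : ∏ d ∈ Finset.Icc 1 n, (1 - (1 / 2 : ℝ) ^ d) ≤ f n := by
    rw [← hinv]
    calc ∏ d ∈ Finset.Icc 1 n, (1 - (1 / 2 : ℝ) ^ d)
        ≤ ∏ d ∈ n.divisors, (1 - (1 / 2 : ℝ) ^ d) := by
          refine Finset.prod_le_prod_of_subset_of_le_one ?_ (fun d hd => ?_) (fun d hd _ => ?_)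
          · intro d hd
            rw [Nat.mem_divisors] at hd
            exact Finset.mem_Icc.2 ⟨Nat.pos_of_dvd_of_pos hd.1 hn, Nat.le_of_dvd hn hd.1⟩
          · have : (1 / 2 : ℝ) ^ d ≤ 1 := pow_le_one₀ (by norm_num) (by norm_num)
            linarith
          · have : 0 ≤ (1 / 2 : ℝ) ^ d := by positivity
            linarith
      _ ≤ ∏ d ∈ n.divisors, g d := by
          refine Finset.prod_le_prod (fun d hd => ?_)
            (fun d hd => (hg d (Nat.pos_of_mem_divisors hd)).2.2)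
          have : (1 / 2 : ℝ) ^ d ≤ 1 := pow_le_one₀ (by norm_num) (by norm_num)
          linarith
      _ = ∏ i ∈ n.divisorsAntidiagonal, g i.2 := by
          rw [← Nat.map_div_left_divisors, Finset.prod_map]
          exact Finset.prod_congr rfl fun i _ => rfl
      _ ≤ ∏ i ∈ n.divisorsAntidiagonal, g i.2 ^ μ i.1 := by
          refine Finset.prod_le_prod (fun i hi => ?_) (fun i hi => ?_) <;>
            have hi2 : 0 < i.2 := Nat.pos_of_ne_zero (fun h => by
              rw [Nat.mem_divisorsAntidiagonal, h, mul_zero] at hi; omega)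
          · exact (hg _ hi2).1.le
          · obtain ⟨h1, h2, -⟩ := hg _ hi2
            rcases moebius_eq_or i.1 with h | h | h <;> rw [h]
            · simpa using h2
            · simp
            · rw [zpow_neg, zpow_one]
              exact h2.trans ((one_le_inv₀ h1).2 h2)
  have h4 : (1 / 4 : ℝ) ≤ f n := by
    refine le_trans ?_ key
    obtain ⟨m, rfl⟩ : ∃ m, n = m + 1 := ⟨n - 1, by omega⟩
    have := quarter_le_prod m
    have : (0 : ℝ) ≤ (1 / 2) ^ (m + 2) := by positivity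
    linarith
  simp only [f] at h4
  rw [le_div_iff₀ (by positivity)] at h4
  have h5 : (cyclotomic n ℝ).eval x = (((cyclotomic n ℤ).eval (q : ℤ) : ℤ) : ℝ) := by
    rw [← map_cyclotomic_int n ℝ, eval_map, hx]
    have h6 := Polynomial.hom_eval₂ (cyclotomic n ℤ) (RingHom.id ℤ) (Int.castRingHom ℝ) (q : ℤ)
    rw [eval₂_id, RingHom.comp_id] at h6
    simpa using h6.symm
  rw [h5] at h4
  have h7 : (q : ℤ) ^ n.totient ≤ 4 * (cyclotomic n ℤ).eval (q : ℤ) := by
    rw [hx] at h4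
    have : ((q : ℝ) ^ n.totient) ≤ 4 * (((cyclotomic n ℤ).eval (q : ℤ) : ℤ) : ℝ) := by linarith
    exact_mod_cast this
  have : ((q ^ n.totient : ℕ) : ℤ) ≤ ((4 * ((cyclotomic n ℤ).eval (q : ℤ)).natAbs : ℕ) : ℤ) := by
    push_cast
    exact h7.trans (mul_le_mul_of_nonneg_left (le_abs_self _) (by norm_num))
  exact_mod_cast this

/-- `n ≤ 2 φ(n)^2`, and `n ≤ φ(n)^2` for odd `n` -/
theorem le_two_mul_totient_sq (n : ℕ) :
    n ≤ 2 * n.totient ^ 2 ∧ (Odd n → n ≤ n.totient ^ 2) := by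
  induction n using Nat.recOnPosPrimePosCoprime with
  | zero => simp
  | one => simp
  | prime_pow p k hp hk =>
    rw [Nat.totient_prime_pow hp hk]
    obtain ⟨j, rfl⟩ : ∃ j, k = j + 1 := ⟨k - 1, by omega⟩
    simp only [Nat.add_sub_cancel]
    have hpos : 1 ≤ p ^ j := Nat.one_le_pow _ _ hp.pos
    rcases hp.eq_two_or_odd' with rfl | hodd
    · refine ⟨?_, fun h => absurd h (by simp [Nat.even_pow, Nat.not_odd_iff_even])⟩
      rw [pow_succ]; nlinarith
    · have hp3 : 3 ≤ p := by have := hp.two_le; rcases hodd with ⟨c, hc⟩; omega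
      have hsq : p ≤ (p - 1) ^ 2 := by
        obtain ⟨c, rfl⟩ : ∃ c, p = c + 3 := ⟨p - 3, by omega⟩
        rw [show c + 3 - 1 = c + 2 by omega]; nlinarith
      have h : p ^ (j + 1) ≤ (p ^ j * (p - 1)) ^ 2 := by
        rw [pow_succ, mul_pow]
        exact Nat.mul_le_mul (Nat.le_self_pow two_ne_zero _) hsq
      exact ⟨h.trans (Nat.le_mul_of_pos_left _ two_pos), fun _ => h⟩
  | coprime a b ha hb hab iha ihb =>
    rw [Nat.totient_mul hab, mul_pow]
    refine ⟨?_, fun h => ?_⟩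
    · rcases Nat.even_or_odd a with hae | hao
      · have hbo : Odd b := by
          by_contra hbo
          rw [Nat.not_odd_iff_even] at hbo
          have := Nat.dvd_gcd hae.two_dvd hbo.two_dvd
          rw [hab] at this; omega
        calc a * b ≤ (2 * a.totient ^ 2) * b.totient ^ 2 := Nat.mul_le_mul iha.1 (ihb.2 hbo)
          _ = _ := by ring
      · calc a * b ≤ a.totient ^ 2 * (2 * b.totient ^ 2) := Nat.mul_le_mul (iha.2 hao) ihb.1
          _ = _ := by ring
    · rw [Nat.odd_mul] at h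
      exact Nat.mul_le_mul (iha.2 h.1) (ihb.2 h.2)

theorem pow_four_le_two_pow : ∀ {f : ℕ}, 23 ≤ f → 24 * f ^ 4 ≤ 2 ^ f := by
  intro f hf
  induction f, hf using Nat.le_induction with
  | base => norm_num
  | succ f hf ih =>
    rw [pow_succ 2 f]
    nlinarith [Nat.mul_le_mul_right (f ^ 2) (Nat.mul_le_mul hf hf),
      Nat.mul_le_mul_right f (Nat.mul_le_mul hf hf), Nat.mul_le_mul hf hf, hf]

end CfsgLib.LargePrimitive
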